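import Mathlib.AlgebraicGeometry.ResidueField
import Mathlib.AlgebraicGeometry.Stalk
import Mathlib.RingTheory.Valuation.ValuationSubring

/-!
# Morphisms from spectra of local rings and valuation rings

* `K937.VC.exists_fac`, `exists_fac_of_specializes` : factorization through the local scheme at a point.
* `K937.VC.hom_ext_of_injective` : two morphisms from `Spec` of a local ring `A` that agree at the closed point and
  on `Spec B`, for an injective `A → B`, are equal.
-/

universe u
open CategoryTheory AlgebraicGeometry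

namespace K937.VC

/-- A morphism from the spectrum of a local ring factors through the local scheme at the image of the
closed point. -/
theorem exists_fac {X : Scheme.{u}} {A : Type u} [CommRing A] [IsLocalRing A]
    (h : Spec (CommRingCat.of A) ⟶ X) (x : X) (hx : h (IsLocalRing.closedPoint A) = x) :
    ∃ a : X.presheaf.stalk x ⟶ CommRingCat.of A,
      Spec.map a ≫ X.fromSpecStalk x = h ∧ IsLocalHom a.hom := by
  subst hx
  exact ⟨Scheme.stalkClosedPointTo h, Scheme.Spec_stalkClosedPointTo_fromSpecStalk h, inferInstance⟩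

theorem exists_fac_of_specializes {X : Scheme.{u}} {A : Type u} [CommRing A] [IsLocalRing A]
    (h : Spec (CommRingCat.of A) ⟶ X) (x : X) (hx : h (IsLocalRing.closedPoint A) ⤳ x) :
    ∃ a : X.presheaf.stalk x ⟶ CommRingCat.of A,
      Spec.map a ≫ X.fromSpecStalk x = h := by
  obtain ⟨a, ha, -⟩ := exists_fac h _ rfl
  refine ⟨X.presheaf.stalkSpecializes hx ≫ a, ?_⟩
  rw [Spec.map_comp, Category.assoc, Scheme.SpecMap_stalkSpecializes_fromSpecStalk, ha]

theorem exists_fac_residueField {X Y : Scheme.{u}} (f : Y ⟶ X) (y : Y) (x : X) (hx : f y ⤳ x) :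
    ∃ b : X.presheaf.stalk x ⟶ Y.residueField y,
      Spec.map b ≫ X.fromSpecStalk x = Y.fromSpecResidueField y ≫ f := by
  refine ⟨X.presheaf.stalkSpecializes hx ≫ f.stalkMap y ≫ Y.residue y, ?_⟩
  rw [Spec.map_comp, Spec.map_comp, Category.assoc, Category.assoc,
    Scheme.SpecMap_stalkSpecializes_fromSpecStalk, Scheme.SpecMap_stalkMap_fromSpecStalk]
  rfl

/-- Ring maps out of a stalk are determined by the induced morphisms. -/
theorem stalk_hom_ext {X : Scheme.{u}} {x : X} {B : CommRingCat.{u}} {a b : X.presheaf.stalk x ⟶ B}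
    (h : Spec.map a ≫ X.fromSpecStalk x = Spec.map b ≫ X.fromSpecStalk x) : a = b := by
  rw [cancel_mono] at h
  exact Spec.map_injective h

theorem hom_ext_of_injective {X : Scheme.{u}} {A : Type u} [CommRing A] [IsLocalRing A]
    {B : CommRingCat.{u}} (j : CommRingCat.of A ⟶ B) (hj : Function.Injective j.hom)
    (h₁ h₂ : Spec (CommRingCat.of A) ⟶ X)
    (hc : h₁ (IsLocalRing.closedPoint A) = h₂ (IsLocalRing.closedPoint A))
    (hg : Spec.map j ≫ h₁ = Spec.map j ≫ h₂) : h₁ = h₂ := by
  obtain ⟨a, ha, -⟩ := exists_fac h₁ _ hc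
  obtain ⟨b, hb, -⟩ := exists_fac h₂ _ rfl
  have h1 : a ≫ j = b ≫ j := by
    apply stalk_hom_ext
    rw [Spec.map_comp, Spec.map_comp, Category.assoc, Category.assoc, ha, hb, hg]
  have h2 : a = b := by
    ext x
    apply hj
    have := congrArg (fun f => f.hom x) h1
    simpa using this
  calc h₁ = Spec.map a ≫ X.fromSpecStalk _ := ha.symm
    _ = Spec.map b ≫ X.fromSpecStalk _ := by rw [h2]
    _ = h₂ := hb

/-- For a subring of a field the generic-point restriction version. -/
theorem hom_ext_valuationSubring {X : Scheme.{u}} {K : Type u} [Field K] (R : ValuationSubring K)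
    (h₁ h₂ : Spec (CommRingCat.of ↥R) ⟶ X)
    (hc : h₁ (IsLocalRing.closedPoint R) = h₂ (IsLocalRing.closedPoint R))
    (hg : Spec.map (CommRingCat.ofHom R.subtype) ≫ h₁ = Spec.map (CommRingCat.ofHom R.subtype) ≫ h₂) :
    h₁ = h₂ :=
  hom_ext_of_injective (CommRingCat.ofHom R.subtype) (fun _ _ h => Subtype.ext h) h₁ h₂ hc hg

theorem specMap_closedPoint {A B : Type u} [CommRing A] [IsLocalRing A] [CommRing B] [IsLocalRing B]
    (σ : A →+* B) [IsLocalHom σ] :
    (Spec.map (CommRingCat.ofHom σ)) (IsLocalRing.closedPoint B) = IsLocalRing.closedPoint A :=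
  IsLocalRing.comap_closedPoint σ

/-- Precomposition with a local homomorphism does not change the image of the closed point. -/
theorem comp_closedPoint {X : Scheme.{u}} {A B : Type u} [CommRing A] [IsLocalRing A] [CommRing B]
    [IsLocalRing B] (σ : A →+* B) [IsLocalHom σ] (h : Spec (CommRingCat.of A) ⟶ X) :
    (Spec.map (CommRingCat.ofHom σ) ≫ h) (IsLocalRing.closedPoint B) = h (IsLocalRing.closedPoint A) := by
  show h ((Spec.map (CommRingCat.ofHom σ)) (IsLocalRing.closedPoint B)) = _
  exact congrArg h (specMap_closedPoint σ)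

theorem comp_specializes {X : Scheme.{u}} {A B : Type u} [CommRing A] [IsLocalRing A] [CommRing B]
    [IsLocalRing B] (σ : A →+* B) (h : Spec (CommRingCat.of A) ⟶ X) :
    (Spec.map (CommRingCat.ofHom σ) ≫ h) (IsLocalRing.closedPoint B) ⤳ h (IsLocalRing.closedPoint A) := by
  show h ((Spec.map (CommRingCat.ofHom σ)) (IsLocalRing.closedPoint B)) ⤳ _
  exact (IsLocalRing.specializes_closedPoint _).map h.continuous

end K937.VC
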