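import Groth.Agent.ValCrit.K937.DvrEss
import Groth.Agent.ValCrit.K937.Basic
import Groth.Agent.Ega43.UnivClosedAffine
import Groth.Agent.Sga3B.QCClosure
import Mathlib.AlgebraicGeometry.ValuativeCriterion

/-!
# Valuative criteria with DVRs essentially of finite type over a Nagata base
-/

set_option autoImplicit false
universe u

open IsLocalRing CategoryTheory CategoryTheory.Limits AlgebraicGeometry

namespace Groth.Agent.ValCrit.K937.DvrEssMain

open Groth.Agent.ValCrit.K937.DvrEss

/-- A morphism `Spec R ⟶ S` is essentially of finite type through an affine open. -/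
def EssFT {S : Scheme.{u}} {R : Type u} [CommRing R] (j : Spec (CommRingCat.of R) ⟶ S) : Prop :=
  ∃ (U : S.affineOpens) (φ : Γ(S, U.1) ⟶ CommRingCat.of R),
    Spec.map φ ≫ U.2.fromSpec = j ∧ φ.hom.EssFiniteType

theorem essFT_of_stalk {V S : Scheme.{u}} (s : V ⟶ S) [LocallyOfFiniteType s] (w : V)
    {R : Type u} [CommRing R] (g : V.presheaf.stalk w ⟶ CommRingCat.of R)
    (hg : g.hom.EssFiniteType) : EssFT (Spec.map g ≫ V.fromSpecStalk w ≫ s) := by
  obtain ⟨U, φ, h1, h2⟩ := exists_essFiniteType s w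
  refine ⟨U, φ ≫ g, ?_, h2.comp hg⟩
  rw [Spec.map_comp, Category.assoc, h1]

theorem isLocallyNoetherian_of_isNagata {S : Scheme.{u}}
    (hS : ∀ U : S.affineOpens, CAlg.IsNagata Γ(S, U.1)) : IsLocallyNoetherian S :=
  ⟨fun U => (hS U).1⟩

/-- **Uniqueness.** -/
theorem isSeparated {S : Scheme.{u}}
    (hS : ∀ U : S.affineOpens, CAlg.IsNagata Γ(S, U.1))
    {X Y : Scheme.{u}} (f : X ⟶ Y) (g : Y ⟶ S)
    [LocallyOfFiniteType f] [LocallyOfFiniteType g]
    (H : ∀ sq : ValuativeCommSq f, IsDiscreteValuationRing sq.R → EssFT (sq.i₂ ≫ g) →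
      Subsingleton sq.commSq.LiftStruct) : IsSeparated f := by
  have hSN : IsLocallyNoetherian S := isLocallyNoetherian_of_isNagata hS
  have hXN : IsLocallyNoetherian X := LocallyOfFiniteType.isLocallyNoetherian (f ≫ g)
  have hqs : QuasiSeparated f := inferInstance
  constructor
  refine IsClosedImmersion.of_isPreimmersion _ ?_
  rw [← closure_subset_iff_isClosed]
  intro w hw
  obtain ⟨y, hy⟩ := Groth.Agent.Sga3B.QCClosure.exists_specializes_of_mem_closure_range _ w hw
  by_cases hyw : pullback.diagonal f y = w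
  · exact ⟨y, hyw⟩
  have hlft : LocallyOfFiniteType (pullback.diagonal f) := by
    have : LocallyOfFiniteType (pullback.diagonal f ≫ pullback.fst f f) := by
      rw [pullback.diagonal_fst]; infer_instance
    exact locallyOfFiniteType_of_comp _ (pullback.fst f f)
  have hlft' : LocallyOfFiniteType (pullback.fst f f ≫ f ≫ g) := inferInstance
  obtain ⟨R, i1, i2, i3, i4, i5, g₀, hg1, hg2, hg3⟩ :=
    exists_dvr_of_specializes_of_locallyOfFiniteType (pullback.diagonal f) y
      (isNagata_stalk (pullback.fst f f ≫ f ≫ g) hS w) hy hyw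
  obtain ⟨γ, hγ⟩ : ∃ γ : Spec (CommRingCat.of R) ⟶ pullback f f,
      γ = Spec.map g₀ ≫ (pullback f f).fromSpecStalk w := ⟨_, rfl⟩
  replace hg3 : Spec.map (CommRingCat.ofHom (algebraMap R (X.residueField y))) ≫ γ =
      X.fromSpecResidueField y ≫ pullback.diagonal f := by rw [hγ]; exact hg3
  have hleft : Spec.map (CommRingCat.ofHom (algebraMap R (X.residueField y))) ≫
      γ ≫ pullback.fst f f = X.fromSpecResidueField y := by
    rw [← Category.assoc, hg3, Category.assoc, pullback.diagonal_fst, Category.comp_id]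
  have hright : Spec.map (CommRingCat.ofHom (algebraMap R (X.residueField y))) ≫
      γ ≫ pullback.snd f f = X.fromSpecResidueField y := by
    rw [← Category.assoc, hg3, Category.assoc, pullback.diagonal_snd, Category.comp_id]
  let sq : ValuativeCommSq f :=
    { R := R
      K := X.residueField y
      i₁ := X.fromSpecResidueField y
      i₂ := γ ≫ pullback.fst f f ≫ f
      commSq := ⟨by rw [← hleft]; simp only [Category.assoc]⟩ }
  have hsub : Subsingleton sq.commSq.LiftStruct := by
    refine H sq i3 ?_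
    have := essFT_of_stalk (pullback.fst f f ≫ f ≫ g) w g₀ hg2
    show EssFT ((γ ≫ pullback.fst f f ≫ f) ≫ g)
    rw [hγ]
    simpa only [Category.assoc] using this
  let l₁ : sq.commSq.LiftStruct := ⟨γ ≫ pullback.fst f f, hleft, by
    show (γ ≫ pullback.fst f f) ≫ f = γ ≫ pullback.fst f f ≫ f
    rw [Category.assoc]⟩
  let l₂ : sq.commSq.LiftStruct := ⟨γ ≫ pullback.snd f f, hright, by
    show (γ ≫ pullback.snd f f) ≫ f = γ ≫ pullback.fst f f ≫ f
    rw [Category.assoc, pullback.condition]⟩
  have e : γ ≫ pullback.fst f f = γ ≫ pullback.snd f f :=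
    congrArg (fun t : sq.commSq.LiftStruct => t.l) (Subsingleton.elim l₁ l₂)
  have e2 : γ = (γ ≫ pullback.fst f f) ≫ pullback.diagonal f := by
    apply pullback.hom_ext
    · rw [Category.assoc, pullback.diagonal_fst, Category.comp_id]
    · rw [Category.assoc, pullback.diagonal_snd, Category.comp_id, e]
  refine ⟨(γ ≫ pullback.fst f f) (IsLocalRing.closedPoint R), ?_⟩
  have hγw : γ (closedPoint R) = w := by rw [hγ]; exact map_closedPoint w g₀ hg1
  rw [← hγw]
  exact (congrArg (fun χ : Spec (CommRingCat.of R) ⟶ pullback f f =>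
    χ (IsLocalRing.closedPoint R)) e2).symm

open AffineSpace in
/-- **Existence.** -/
theorem universallyClosed {S : Scheme.{u}}
    (hS : ∀ U : S.affineOpens, CAlg.IsNagata Γ(S, U.1))
    {X Y : Scheme.{u}} (f : X ⟶ Y) (g : Y ⟶ S)
    [QuasiCompact f] [LocallyOfFiniteType f] [LocallyOfFiniteType g]
    (H : ∀ sq : ValuativeCommSq f, IsDiscreteValuationRing sq.R → EssFT (sq.i₂ ≫ g) →
      sq.commSq.HasLift) : UniversallyClosed f := by
  apply Groth.Agent.Ega43.UnivClosedAffine.universallyClosed_of_isClosedMap_affineSpace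
  intro n hn
  have hpb := AffineSpace.isPullback_map (n := n) f
  have hqc : QuasiCompact (AffineSpace.map n f) := 
    MorphismProperty.of_isPullback hpb.flip inferInstance
  have hlft : LocallyOfFiniteType (AffineSpace.map n f) := 
    MorphismProperty.of_isPullback hpb.flip inferInstance
  rw [isClosedMap_iff_specializingMap]
  intro x y hxy
  change (AffineSpace.map n f) x ⤳ y at hxy
  by_cases hne : (AffineSpace.map n f) x = y
  · exact ⟨x, specializes_rfl, hne⟩
  have hlft' : LocallyOfFiniteType ((𝔸(n; Y) ↘ Y) ≫ g) := inferInstance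
  obtain ⟨R, i1, i2, i3, i4, i5, g₀, hg1, hg2, hg3⟩ :=
    exists_dvr_of_specializes_of_locallyOfFiniteType (AffineSpace.map n f) x
      (isNagata_stalk ((𝔸(n; Y) ↘ Y) ≫ g) hS y) hxy hne
  set γ := Spec.map g₀ ≫ (𝔸(n; Y)).fromSpecStalk y with hγ
  let sq : ValuativeCommSq f :=
    { R := R
      K := (𝔸(n; X)).residueField x
      i₁ := (𝔸(n; X)).fromSpecResidueField x ≫ (𝔸(n; X) ↘ X)
      i₂ := γ ≫ (𝔸(n; Y) ↘ Y)
      commSq := ⟨by
        rw [Category.assoc, ← hpb.w, ← Category.assoc, ← hg3, Category.assoc]⟩ }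
  have hlift : sq.commSq.HasLift := by
    refine H sq i3 ?_
    have := essFT_of_stalk ((𝔸(n; Y) ↘ Y) ≫ g) y g₀ hg2
    show EssFT ((γ ≫ (𝔸(n; Y) ↘ Y)) ≫ g)
    rw [hγ]
    simpa only [Category.assoc] using this
  obtain ⟨⟨l, hl1, hl2⟩⟩ := hlift.exists_lift
  let lam : Spec (CommRingCat.of R) ⟶ 𝔸(n; X) := hpb.lift γ l hl2.symm
  have h1 : Spec.map (CommRingCat.ofHom (algebraMap R ((𝔸(n; X)).residueField x))) ≫ lam =
      (𝔸(n; X)).fromSpecResidueField x := by
    apply hpb.hom_ext
    · rw [Category.assoc, hpb.lift_fst, hg3]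
    · rw [Category.assoc, hpb.lift_snd]
      exact hl1
  refine ⟨lam (closedPoint R), ?_, ?_⟩
  · have h2 := _root_.K937.VC.comp_specializes (algebraMap R ((𝔸(n; X)).residueField x)) lam
    rw [h1] at h2
    have h4 : (𝔸(n; X)).fromSpecResidueField x
        (closedPoint ((𝔸(n; X)).residueField x)) = x := Scheme.fromSpecResidueField_apply _ _
    exact h4 ▸ h2
  · have h3 : (lam ≫ AffineSpace.map n f) (closedPoint R) = y := by
      rw [hpb.lift_fst]
      exact map_closedPoint y g₀ hg1
    exact h3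

end Groth.Agent.ValCrit.K937.DvrEssMain
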