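import Groth.Agent.ValCrit.K937.Basic
import Groth.Agent.Sga3B.QCClosure
import Mathlib.AlgebraicGeometry.ValuativeCriterion
import Mathlib.AlgebraicGeometry.Morphisms.QuasiSeparated
import Mathlib.RingTheory.Valuation.LocalSubring

/-!
# Refined valuative criteria

* `K937.VC.exists_valuation_curve` : a specialization `c t ⤳ w` of a point of a `T`-scheme is realised by a valuation ring of
  `κ(t)`.
* `K937.VC.isSeparated_of_refined` : the refined uniqueness criterion implies separatedness.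
* `K937.VC.existence_of_valuationSubring` : existence for valuation subrings implies Mathlib's existence criterion.
* `K937.VC.compVal` : composite valuation rings.
* `K937.VC.existence_of_refined` : the refined existence criterion.
-/

universe u
open CategoryTheory CategoryTheory.Limits AlgebraicGeometry

namespace K937.VC

/-- A specialization of a point of the image is realised by a valuation ring of the residue field. -/
theorem exists_valuation_curve {T V : Scheme.{u}} (c : T ⟶ V) (t : T) (w : V) (hw : c t ⤳ w) :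
    ∃ (R : ValuationSubring ↑(T.residueField t)) (ψ : Spec (CommRingCat.of ↥R) ⟶ V),
      Spec.map (CommRingCat.ofHom R.subtype) ≫ ψ = T.fromSpecResidueField t ≫ c ∧
      ψ (IsLocalRing.closedPoint ↥R) = w := by
  obtain ⟨b, hb⟩ := exists_fac_residueField c t w hw
  obtain ⟨A, hA, hloc⟩ := IsLocalRing.exists_factor_valuationRing (K := ↑(T.residueField t)) b.hom
  let b' : V.presheaf.stalk w ⟶ CommRingCat.of ↥A := CommRingCat.ofHom (b.hom.codRestrict A.toSubring hA)
  refine ⟨A, Spec.map b' ≫ V.fromSpecStalk w, ?_, ?_⟩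
  · rw [← Category.assoc, ← Spec.map_comp]
    exact hb
  · show V.fromSpecStalk w ((Spec.map b') (IsLocalRing.closedPoint ↥A)) = w
    have : (Spec.map b') (IsLocalRing.closedPoint ↥A) = IsLocalRing.closedPoint (V.presheaf.stalk w) :=
      IsLocalRing.comap_closedPoint (S := ↥A) (b.hom.codRestrict A.toSubring hA)
    rw [this, V.fromSpecStalk_closedPoint]

theorem quasiCompact_of_qcqs {Y Z : Scheme.{u}} (h : Z ⟶ Y) [CompactSpace ↥Z] [QuasiSeparatedSpace ↥Y] :
    QuasiCompact h := inferInstance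

theorem exists_specializes {Y Z : Scheme.{u}} (h : Z ⟶ Y) [QuasiCompact h] (hd : DenseRange h.base) (y : Y) :
    ∃ z : Z, h z ⤳ y :=
  Groth.Agent.Sga3B.QCClosure.exists_specializes_of_mem_closure_range h y (hd y)

/-- The refined uniqueness criterion implies separatedness. -/
theorem isSeparated_of_refined {X Y Z : Scheme.{u}} (h : Z ⟶ Y) (f : Y ⟶ X) [QuasiCompact h]
    [QuasiSeparated f] (hd : DenseRange h.base)
    (H : ∀ (z : ↥Z) (R : ValuationSubring ↑(Z.residueField z)) (φ₁ φ₂ : Spec (CommRingCat.of ↥R) ⟶ Y),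
      Spec.map (CommRingCat.ofHom R.subtype) ≫ φ₁ = Z.fromSpecResidueField z ≫ h →
      Spec.map (CommRingCat.ofHom R.subtype) ≫ φ₂ = Z.fromSpecResidueField z ≫ h →
      φ₁ ≫ f = φ₂ ≫ f → φ₁ = φ₂) : IsSeparated f := by
  constructor
  refine IsClosedImmersion.of_isPreimmersion _ ?_
  rw [← closure_subset_iff_isClosed]
  intro w hw
  obtain ⟨y, hy⟩ := Groth.Agent.Sga3B.QCClosure.exists_specializes_of_mem_closure_range _ w hw
  obtain ⟨z, hz⟩ := exists_specializes h hd y
  have hzw : (h ≫ pullback.diagonal f) z ⤳ w := by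
    have h1 : pullback.diagonal f (h z) ⤳ pullback.diagonal f y := hz.map (pullback.diagonal f).continuous
    exact h1.trans hy
  obtain ⟨R, ψ, hψ₁, hψ₂⟩ := exists_valuation_curve (h ≫ pullback.diagonal f) z w hzw
  have e : ψ ≫ pullback.fst f f = ψ ≫ pullback.snd f f := by
    apply H z R
    · rw [← Category.assoc, hψ₁, Category.assoc, Category.assoc, pullback.diagonal_fst, Category.comp_id]
    · rw [← Category.assoc, hψ₁, Category.assoc, Category.assoc, pullback.diagonal_snd, Category.comp_id]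
    · rw [Category.assoc, Category.assoc, pullback.condition]
  have e2 : ψ = (ψ ≫ pullback.fst f f) ≫ pullback.diagonal f := by
    apply pullback.hom_ext
    · rw [Category.assoc, pullback.diagonal_fst, Category.comp_id]
    · rw [Category.assoc, pullback.diagonal_snd, Category.comp_id, e]
  refine ⟨(ψ ≫ pullback.fst f f) (IsLocalRing.closedPoint ↥R), ?_⟩
  rw [← hψ₂]
  exact (congrArg (fun χ : Spec (CommRingCat.of ↥R) ⟶ pullback f f => χ (IsLocalRing.closedPoint ↥R)) e2).symm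

/-- Existence of lifts for valuation subrings implies the existence part of the valuative criterion. -/
theorem existence_of_valuationSubring {X Y : Scheme.{u}} (f : Y ⟶ X)
    (H : ∀ (K : Type u) [Field K] (V : ValuationSubring K) (i₁ : Spec (CommRingCat.of K) ⟶ Y)
      (i₂ : Spec (CommRingCat.of ↥V) ⟶ X), i₁ ≫ f = Spec.map (CommRingCat.ofHom V.subtype) ≫ i₂ →
      ∃ l : Spec (CommRingCat.of ↥V) ⟶ Y, Spec.map (CommRingCat.ofHom V.subtype) ≫ l = i₁ ∧ l ≫ f = i₂) :
    ValuativeCriterion.Existence f := by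
  intro S
  let V : ValuationSubring S.K := ⟨(algebraMap S.R S.K).range, ValuationRing.isInteger_or_isInteger S.R⟩
  let e : S.R ≃+* V := RingEquiv.ofBijective (algebraMap S.R S.K).rangeRestrict
    ⟨fun a b hab => IsFractionRing.injective S.R S.K (congrArg Subtype.val hab),
      (algebraMap S.R S.K).rangeRestrict_surjective⟩
  have he : ∀ r, ((e r : V) : S.K) = algebraMap S.R S.K r := fun r => rfl
  obtain ⟨l, hl₁, hl₂⟩ := H S.K V S.i₁ (Spec.map (CommRingCat.ofHom e.toRingHom) ≫ S.i₂) (by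
    rw [S.commSq.w, ← Category.assoc, ← Spec.map_comp]
    rfl)
  refine ⟨⟨⟨Spec.map (CommRingCat.ofHom e.symm.toRingHom) ≫ l, ?_, ?_⟩⟩⟩
  · rw [← hl₁, ← Category.assoc, ← Spec.map_comp]
    congr 2
    ext x
    show algebraMap S.R S.K (e.symm x) = x
    rw [← he, e.apply_symm_apply]
  · rw [Category.assoc, hl₂, ← Category.assoc, ← Spec.map_comp]
    have : CommRingCat.ofHom e.toRingHom ≫ CommRingCat.ofHom e.symm.toRingHom = 𝟙 _ := by
      ext x
      exact e.symm_apply_apply x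
    rw [this, Spec.map_id, Category.id_comp]

/-- The composite valuation ring: `{x ∈ R₀ | residue x ∈ R₁}`. -/
noncomputable def compVal {L : Type u} [Field L] (R₀ : ValuationSubring L)
    (R₁ : ValuationSubring (IsLocalRing.ResidueField ↥R₀)) : ValuationSubring L where
  carrier := {x | ∃ hx : x ∈ R₀, IsLocalRing.residue ↥R₀ ⟨x, hx⟩ ∈ R₁}
  mul_mem' := by
    rintro a b ⟨ha, ha'⟩ ⟨hb, hb'⟩
    refine ⟨mul_mem ha hb, ?_⟩
    have : (⟨a * b, mul_mem ha hb⟩ : ↥R₀) = ⟨a, ha⟩ * ⟨b, hb⟩ := rfl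
    rw [this, map_mul]
    exact mul_mem ha' hb'
  one_mem' := ⟨one_mem _, by
    have : (⟨1, one_mem _⟩ : ↥R₀) = 1 := rfl
    rw [this, map_one]
    exact one_mem _⟩
  add_mem' := by
    rintro a b ⟨ha, ha'⟩ ⟨hb, hb'⟩
    refine ⟨add_mem ha hb, ?_⟩
    have : (⟨a + b, add_mem ha hb⟩ : ↥R₀) = ⟨a, ha⟩ + ⟨b, hb⟩ := rfl
    rw [this, map_add]
    exact add_mem ha' hb'
  zero_mem' := ⟨zero_mem _, by
    have : (⟨0, zero_mem _⟩ : ↥R₀) = 0 := rfl
    rw [this, map_zero]
    exact zero_mem _⟩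
  neg_mem' := by
    rintro a ⟨ha, ha'⟩
    refine ⟨neg_mem ha, ?_⟩
    have : (⟨-a, neg_mem ha⟩ : ↥R₀) = -⟨a, ha⟩ := rfl
    rw [this, map_neg]
    exact neg_mem ha'
  mem_or_inv_mem' := by
    intro x
    have key : ∀ y : L, ∀ hy : y ∈ R₀, ¬ IsUnit (⟨y, hy⟩ : ↥R₀) →
        ∃ hx : y ∈ R₀, IsLocalRing.residue ↥R₀ ⟨y, hx⟩ ∈ R₁ := by
      intro y hy hu
      refine ⟨hy, ?_⟩
      rw [(IsLocalRing.residue_eq_zero_iff _).mpr ((IsLocalRing.mem_maximalIdeal _).mpr hu)]
      exact zero_mem _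
    by_cases hx0 : x = 0
    · subst hx0
      left
      refine key 0 (zero_mem _) ?_
      intro h
      exact not_isUnit_zero (M₀ := ↥R₀) h
    rcases R₀.mem_or_inv_mem x with hx | hx
    · by_cases hu : IsUnit (⟨x, hx⟩ : ↥R₀)
      · have hinv : x⁻¹ ∈ R₀ := by
          obtain ⟨v, hv⟩ := isUnit_iff_exists_inv.mp hu
          have h1 : x * (v : L) = 1 := congrArg Subtype.val hv
          rw [inv_eq_of_mul_eq_one_right h1]
          exact v.2
        have hmul : IsLocalRing.residue ↥R₀ ⟨x, hx⟩ * IsLocalRing.residue ↥R₀ ⟨x⁻¹, hinv⟩ = 1 := by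
          rw [← map_mul]
          have : (⟨x, hx⟩ * ⟨x⁻¹, hinv⟩ : ↥R₀) = 1 := Subtype.ext (mul_inv_cancel₀ hx0)
          rw [this, map_one]
        rcases R₁.mem_or_inv_mem (IsLocalRing.residue ↥R₀ ⟨x, hx⟩) with h | h
        · exact Or.inl ⟨hx, h⟩
        · right
          refine ⟨hinv, ?_⟩
          rwa [← inv_eq_of_mul_eq_one_right hmul]
      · exact Or.inl (key x hx hu)
    · by_cases hu : IsUnit (⟨x⁻¹, hx⟩ : ↥R₀)
      · have hx' : x ∈ R₀ := by
          obtain ⟨v, hv⟩ := isUnit_iff_exists_inv.mp hu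
          have h1 : x⁻¹ * (v : L) = 1 := congrArg Subtype.val hv
          have h2 := inv_eq_of_mul_eq_one_right h1
          rw [inv_inv] at h2
          rw [h2]
          exact v.2
        have hmul : IsLocalRing.residue ↥R₀ ⟨x, hx'⟩ * IsLocalRing.residue ↥R₀ ⟨x⁻¹, hx⟩ = 1 := by
          rw [← map_mul]
          have : (⟨x, hx'⟩ * ⟨x⁻¹, hx⟩ : ↥R₀) = 1 := Subtype.ext (mul_inv_cancel₀ hx0)
          rw [this, map_one]
        rcases R₁.mem_or_inv_mem (IsLocalRing.residue ↥R₀ ⟨x, hx'⟩) with h | h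
        · exact Or.inl ⟨hx', h⟩
        · right
          refine ⟨hx, ?_⟩
          rwa [← inv_eq_of_mul_eq_one_right hmul]
      · exact Or.inr (key _ hx hu)

section Comp
variable {L : Type u} [Field L] (R₀ : ValuationSubring L) (R₁ : ValuationSubring (IsLocalRing.ResidueField ↥R₀))

theorem mem_compVal {x : L} : x ∈ compVal R₀ R₁ ↔ ∃ hx : x ∈ R₀, IsLocalRing.residue ↥R₀ ⟨x, hx⟩ ∈ R₁ := Iff.rfl

/-- The inclusion of the composite into the coarser ring. -/
noncomputable def compIncl : ↥(compVal R₀ R₁) →+* ↥R₀ :=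
  (compVal R₀ R₁).subtype.codRestrict R₀.toSubring (fun x => x.2.choose)

theorem coe_compIncl (x : ↥(compVal R₀ R₁)) : ((compIncl R₀ R₁ x : ↥R₀) : L) = x := rfl

/-- The surjection onto the finer residual ring. -/
noncomputable def compRes : ↥(compVal R₀ R₁) →+* ↥R₁ :=
  ((IsLocalRing.residue ↥R₀).comp (compIncl R₀ R₁)).codRestrict R₁.toSubring (fun x => x.2.choose_spec)

theorem coe_compRes (x : ↥(compVal R₀ R₁)) :
    ((compRes R₀ R₁ x : ↥R₁) : IsLocalRing.ResidueField ↥R₀) = IsLocalRing.residue ↥R₀ (compIncl R₀ R₁ x) := rfl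

theorem compRes_surjective : Function.Surjective (compRes R₀ R₁) := by
  intro y
  obtain ⟨x, hx⟩ := IsLocalRing.residue_surjective (y : IsLocalRing.ResidueField ↥R₀)
  refine ⟨⟨x, ⟨x.2, ?_⟩⟩, Subtype.ext hx⟩
  have : (⟨(x : L), x.2⟩ : ↥R₀) = x := rfl
  rw [this, hx]
  exact y.2

end Comp

/-- A valuation subring dominated (via `ρ`) by a valuation subring of a larger field is its trace. -/
theorem mem_of_isLocalHom {k : Type u} [Field k] (V : ValuationSubring k) {κ : Type u} [Field κ] (g : k →+* κ)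
    (W : ValuationSubring κ) (ρ : ↥V →+* ↥W) (hρ : ∀ x : ↥V, ((ρ x : ↥W) : κ) = g x) (hl : IsLocalHom ρ)
    {x : k} (hx : g x ∈ W) : x ∈ V := by
  by_contra hxV
  have h1 : x⁻¹ ∈ V := (V.mem_or_inv_mem x).resolve_left hxV
  have hx0 : x ≠ 0 := by
    rintro rfl
    exact hxV (zero_mem _)
  have hu : IsUnit (ρ ⟨x⁻¹, h1⟩) := by
    refine isUnit_iff_exists_inv.mpr ⟨⟨g x, hx⟩, ?_⟩
    apply Subtype.ext
    show ((ρ ⟨x⁻¹, h1⟩ : ↥W) : κ) * g x = 1
    rw [hρ]
    show g x⁻¹ * g x = 1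
    rw [← map_mul, inv_mul_cancel₀ hx0, map_one]
  have hu' := hl.map_nonunit _ hu
  obtain ⟨v, hv⟩ := isUnit_iff_exists_inv.mp hu'
  have h2 : x⁻¹ * (v : k) = 1 := congrArg Subtype.val hv
  have h3 := inv_eq_of_mul_eq_one_right h2
  rw [inv_inv] at h3
  rw [h3] at hxV
  exact hxV v.2

/-- The restriction of a field map to the trace of a valuation subring is a local homomorphism. -/
theorem isLocalHom_comap {k : Type u} [Field k] {κ : Type u} [Field κ] (g : k →+* κ) (R : ValuationSubring κ)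
    (ρ : ↥(R.comap g) →+* ↥R) (hρ : ∀ x : ↥(R.comap g), ((ρ x : ↥R) : κ) = g (x : k)) : IsLocalHom ρ := by
  constructor
  intro x hx
  obtain ⟨z, hz⟩ := isUnit_iff_exists_inv.mp hx
  have h1 : g (x : k) * (z : κ) = 1 := by
    rw [← hρ]
    exact_mod_cast congrArg (Subtype.val) hz
  have hx0 : (x : k) ≠ 0 := by
    intro h0
    rw [h0, map_zero, zero_mul] at h1
    exact zero_ne_one h1
  have h2 : g ((x : k)⁻¹) = z := by
    rw [map_inv₀]
    exact inv_eq_of_mul_eq_one_right h1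
  have h3 : (x : k)⁻¹ ∈ R.comap g := by
    rw [ValuationSubring.mem_comap, h2]
    exact z.2
  refine isUnit_iff_exists_inv.mpr ⟨⟨_, h3⟩, ?_⟩
  apply Subtype.ext
  exact mul_inv_cancel₀ hx0

/-- Composites of ring maps: if `b ∘ a` is local then `a` is local. -/
theorem isLocalHom_of_comp_local {A B C : Type*} [CommRing A] [CommRing B] [CommRing C] (a : A →+* B) (b : B →+* C)
    (h : IsLocalHom (b.comp a)) : IsLocalHom a :=
  ⟨fun x hx => h.map_nonunit x (hx.map b)⟩

/-- The refined existence criterion implies the existence part of the valuative criterion. -/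
theorem existence_of_refined {X Y Z : Scheme.{u}} (h : Z ⟶ Y) (f : Y ⟶ X) [QuasiCompact h]
    (hd : DenseRange h.base)
    (H : ∀ (z : ↥Z) (R : ValuationSubring ↑(Z.residueField z)) (φ : Spec (CommRingCat.of ↥R) ⟶ X),
        Spec.map (CommRingCat.ofHom R.subtype) ≫ φ = Z.fromSpecResidueField z ≫ h ≫ f →
        ∃! φ' : Spec (CommRingCat.of ↥R) ⟶ Y,
          Spec.map (CommRingCat.ofHom R.subtype) ≫ φ' = Z.fromSpecResidueField z ≫ h ∧ φ' ≫ f = φ) :
    ValuativeCriterion.Existence f := by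
  apply existence_of_valuationSubring
  intro K _ V i₁ i₂ w
  -- the points
  obtain ⟨y, hy⟩ : ∃ y : Y, i₁ (IsLocalRing.closedPoint K) = y := ⟨_, rfl⟩
  obtain ⟨x₀, hx₀⟩ : ∃ x₀ : X, i₂ (IsLocalRing.closedPoint ↥V) = x₀ := ⟨_, rfl⟩
  obtain ⟨a, ha, haloc⟩ := exists_fac i₂ x₀ hx₀
  obtain ⟨g', hg', hgloc⟩ := exists_fac i₁ y hy
  -- the residue field map
  let g : Y.residueField y ⟶ CommRingCat.of K := Y.descResidueField g'
  have hg : Y.residue y ≫ g = g' := Scheme.residue_descResidueField _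
  have hgi : Spec.map g ≫ Y.fromSpecResidueField y = i₁ := by
    rw [Scheme.descResidueField_fromSpecResidueField, hg']
  have hspec : f y ⤳ x₀ := by
    have h1 := comp_specializes V.subtype i₂
    rw [← w, hx₀] at h1
    have h2 : (i₁ ≫ f) (IsLocalRing.closedPoint K) = f y := by
      show f (i₁ (IsLocalRing.closedPoint K)) = _
      rw [hy]
    rw [h2] at h1
    exact h1
  -- `b : O_{X,x₀} → O_{Y,y}`
  obtain ⟨b, hb⟩ : ∃ b : X.presheaf.stalk x₀ ⟶ Y.presheaf.stalk y,
      Spec.map b ≫ X.fromSpecStalk x₀ = Y.fromSpecStalk y ≫ f :=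
    ⟨X.presheaf.stalkSpecializes hspec ≫ f.stalkMap y, by
      rw [Spec.map_comp, Category.assoc, Scheme.SpecMap_stalkSpecializes_fromSpecStalk,
        Scheme.SpecMap_stalkMap_fromSpecStalk]⟩
  have hbg : b ≫ g' = a ≫ CommRingCat.ofHom V.subtype := by
    apply stalk_hom_ext
    rw [Spec.map_comp, Spec.map_comp, Category.assoc, Category.assoc, ha, hb, ← Category.assoc, hg', w]
  -- the trace of `V`
  let Ry : ValuationSubring ↑(Y.residueField y) := V.comap g.hom
  let ρV : ↥Ry →+* ↥V := (g.hom.comp Ry.subtype).codRestrict V.toSubring (fun x => x.2)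
  have hρV : ∀ x : ↥Ry, ((ρV x : ↥V) : K) = g.hom (x : ↑(Y.residueField y)) := fun x => rfl
  have hρVl : IsLocalHom ρV := isLocalHom_comap g.hom V ρV hρV
  -- the generisation in `Z`
  obtain ⟨z, hz⟩ := exists_specializes h hd y
  obtain ⟨R₀, ψ₀, hψ₀, hψ₀c⟩ := exists_valuation_curve h z y hz
  obtain ⟨b₀, hb₀, hb₀l⟩ := exists_fac ψ₀ y hψ₀c
  -- the residue map `κ(y) → κ₀`
  let r₀ : Y.presheaf.stalk y ⟶ CommRingCat.of (IsLocalRing.ResidueField ↥R₀) :=
    b₀ ≫ CommRingCat.ofHom (IsLocalRing.residue ↥R₀)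
  have hr₀l : IsLocalHom r₀.hom := by
    have : IsLocalHom ((IsLocalRing.residue ↥R₀).comp b₀.hom) := RingHom.isLocalHom_comp _ _
    exact this
  let g₀ : Y.residueField y ⟶ CommRingCat.of (IsLocalRing.ResidueField ↥R₀) := Y.descResidueField r₀
  have hg₀ : Y.residue y ≫ g₀ = r₀ := Scheme.residue_descResidueField _
  have hg₀' : ∀ s, g₀.hom ((Y.residue y).hom s) = IsLocalRing.residue ↥R₀ (b₀.hom s) := fun s =>
    congrArg (fun t => t.hom s) hg₀
  have hg' : ∀ s, g.hom ((Y.residue y).hom s) = g'.hom s := fun s => by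
    have := congrArg (fun t => t.hom s) hg
    simpa using this
  have hbg' : ∀ s, g'.hom (b.hom s) = ((a.hom s : ↥V) : K) := fun s => by
    have := congrArg (fun t => t.hom s) hbg
    simpa using this
  -- the valuation ring `R₁` of `κ₀` extending `Ry`
  obtain ⟨R₁, hR₁, hR₁l⟩ := IsLocalRing.exists_factor_valuationRing
    (K := IsLocalRing.ResidueField ↥R₀) (g₀.hom.comp Ry.subtype)
  let ρ₁ : ↥Ry →+* ↥R₁ := (g₀.hom.comp Ry.subtype).codRestrict R₁.toSubring hR₁
  have hρ₁ : ∀ x : ↥Ry, ((ρ₁ x : ↥R₁) : IsLocalRing.ResidueField ↥R₀) = g₀.hom (x : ↑(Y.residueField y)) :=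
    fun x => rfl
  have hρ₁l : IsLocalHom ρ₁ := hR₁l
  -- `O_{X,x₀} → Ry`
  have hmemRy : ∀ s, (Y.residue y).hom (b.hom s) ∈ Ry := by
    intro s
    show g.hom _ ∈ V
    rw [hg', hbg']
    exact (a.hom s).2
  let ay : X.presheaf.stalk x₀ →+* ↥Ry := ((Y.residue y).hom.comp b.hom).codRestrict Ry.toSubring hmemRy
  have hay : ρV.comp ay = a.hom := by
    ext s
    show g.hom ((Y.residue y).hom (b.hom s)) = ((a.hom s : ↥V) : K)
    rw [hg', hbg']
  have hayl : IsLocalHom ay := isLocalHom_of_comp_local ay ρV (by rw [hay]; exact haloc)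
  -- the composite valuation ring and the map from it
  let R₂ := compVal R₀ R₁
  have hmem₂ : ∀ s, ((b₀.hom (b.hom s) : ↥R₀) : ↑(Z.residueField z)) ∈ R₂ := by
    intro s
    refine ⟨(b₀.hom (b.hom s)).2, ?_⟩
    show IsLocalRing.residue ↥R₀ (b₀.hom (b.hom s)) ∈ R₁
    rw [← hg₀']
    exact (ρ₁ ⟨_, hmemRy s⟩).2
  let a₂ : X.presheaf.stalk x₀ ⟶ CommRingCat.of ↥R₂ :=
    CommRingCat.ofHom ((R₀.subtype.comp (b₀.hom.comp b.hom)).codRestrict R₂.toSubring hmem₂)
  have ha₂ : a₂ ≫ CommRingCat.ofHom (compIncl R₀ R₁) = b ≫ b₀ := by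
    ext s
    rfl
  have ha₂' : a₂ ≫ CommRingCat.ofHom R₂.subtype = b ≫ b₀ ≫ CommRingCat.ofHom R₀.subtype := by
    ext s
    rfl
  have ha₂r : (compRes R₀ R₁).comp a₂.hom = ρ₁.comp ay := by
    ext s
    show IsLocalRing.residue ↥R₀ (b₀.hom (b.hom s)) = g₀.hom ((Y.residue y).hom (b.hom s))
    rw [hg₀']
  have ha₂l : IsLocalHom a₂.hom := isLocalHom_of_comp_local a₂.hom (compRes R₀ R₁) (by
    rw [ha₂r]
    exact RingHom.isLocalHom_comp _ _)
  obtain ⟨φ', ⟨hφ'₁, hφ'₂⟩, -⟩ := H z R₂ (Spec.map a₂ ≫ X.fromSpecStalk x₀) (by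
    rw [← Category.assoc, ← Spec.map_comp, ha₂', Spec.map_comp, Spec.map_comp, Category.assoc, Category.assoc,
      hb, ← Category.assoc (Spec.map b₀), hb₀, ← Category.assoc, hψ₀, Category.assoc])
  -- restriction to `Spec R₀` is `ψ₀`
  have hrest : Spec.map (CommRingCat.ofHom (compIncl R₀ R₁)) ≫ φ' = ψ₀ := by
    have hsub : CommRingCat.ofHom (compIncl R₀ R₁) ≫ CommRingCat.ofHom R₀.subtype =
        CommRingCat.ofHom R₂.subtype := by
      ext s
      rfl
    have h1 : Spec.map (CommRingCat.ofHom R₀.subtype) ≫ (ψ₀ ≫ f) = Z.fromSpecResidueField z ≫ h ≫ f := by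
      rw [← Category.assoc, hψ₀, Category.assoc]
    refine (H z R₀ (ψ₀ ≫ f) h1).unique ⟨?_, ?_⟩ ⟨hψ₀, rfl⟩
    · rw [← Category.assoc, ← Spec.map_comp, hsub, hφ'₁]
    · rw [Category.assoc, hφ'₂, ← Category.assoc, ← Spec.map_comp, ha₂, Spec.map_comp, Category.assoc, hb,
        ← Category.assoc, hb₀]
  -- the image of the closed point of `Spec R₂`
  obtain ⟨y₀, hy₀⟩ : ∃ y₀ : Y, φ' (IsLocalRing.closedPoint ↥R₂) = y₀ := ⟨_, rfl⟩
  obtain ⟨d, hd', hdl⟩ := exists_fac φ' y₀ hy₀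
  have hyy₀ : y ⤳ y₀ := by
    have h1 := comp_specializes (compIncl R₀ R₁) φ'
    rw [hrest, hψ₀c, hy₀] at h1
    exact h1
  let sp : Y.presheaf.stalk y₀ ⟶ Y.presheaf.stalk y := Y.presheaf.stalkSpecializes hyy₀
  have hsp : Spec.map sp ≫ Y.fromSpecStalk y₀ = Y.fromSpecStalk y :=
    Scheme.SpecMap_stalkSpecializes_fromSpecStalk hyy₀
  have hd₀ : d ≫ CommRingCat.ofHom (compIncl R₀ R₁) = sp ≫ b₀ := by
    apply stalk_hom_ext
    rw [Spec.map_comp, Spec.map_comp, Category.assoc, Category.assoc, hd', hsp, hb₀, hrest]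
  have hd₀' : ∀ s, compIncl R₀ R₁ (d.hom s) = b₀.hom (sp.hom s) := fun s => by
    have := congrArg (fun t => t.hom s) hd₀
    simpa using this
  -- `O_{Y,y₀} → κ(y)` lands in `Ry`
  have hmemRy' : ∀ s, (Y.residue y).hom (sp.hom s) ∈ Ry := by
    intro s
    refine mem_of_isLocalHom Ry g₀.hom R₁ ρ₁ hρ₁ hρ₁l ?_
    rw [hg₀', ← hd₀']
    exact (compRes R₀ R₁ (d.hom s)).2
  let dy : Y.presheaf.stalk y₀ →+* ↥Ry := ((Y.residue y).hom.comp sp.hom).codRestrict Ry.toSubring hmemRy'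
  have hdy : ρ₁.comp dy = (compRes R₀ R₁).comp d.hom := by
    ext s
    show g₀.hom ((Y.residue y).hom (sp.hom s)) = IsLocalRing.residue ↥R₀ (compIncl R₀ R₁ (d.hom s))
    rw [hg₀', hd₀']
  have hresl : IsLocalHom (compRes R₀ R₁) := IsLocalHom.of_surjective _ (compRes_surjective R₀ R₁)
  have hdyl : IsLocalHom dy := isLocalHom_of_comp_local dy ρ₁ (by
    rw [hdy]
    exact RingHom.isLocalHom_comp _ _)
  -- the lift
  let e : Y.presheaf.stalk y₀ ⟶ CommRingCat.of ↥V := CommRingCat.ofHom (ρV.comp dy)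
  have hel : IsLocalHom e.hom := RingHom.isLocalHom_comp ρV dy
  have he : e ≫ CommRingCat.ofHom V.subtype = sp ≫ g' := by
    ext s
    show g.hom ((Y.residue y).hom (sp.hom s)) = g'.hom (sp.hom s)
    rw [hg']
  have hl₁ : Spec.map (CommRingCat.ofHom V.subtype) ≫ Spec.map e ≫ Y.fromSpecStalk y₀ = i₁ := by
    rw [← Category.assoc, ← Spec.map_comp, he, Spec.map_comp, Category.assoc, hsp]
    assumption
  refine ⟨Spec.map e ≫ Y.fromSpecStalk y₀, hl₁, ?_⟩
  apply hom_ext_valuationSubring V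
  · have h1 : (Spec.map e ≫ Y.fromSpecStalk y₀) (IsLocalRing.closedPoint ↥V) = y₀ := by
      show Y.fromSpecStalk y₀ ((Spec.map e) (IsLocalRing.closedPoint ↥V)) = y₀
      have : (Spec.map e) (IsLocalRing.closedPoint ↥V) = IsLocalRing.closedPoint (Y.presheaf.stalk y₀) :=
        IsLocalRing.comap_closedPoint (S := ↥V) e.hom
      rw [this, Y.fromSpecStalk_closedPoint]
    have h2 : (Spec.map a₂ ≫ X.fromSpecStalk x₀) (IsLocalRing.closedPoint ↥R₂) = x₀ := by
      show X.fromSpecStalk x₀ ((Spec.map a₂) (IsLocalRing.closedPoint ↥R₂)) = x₀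
      have : (Spec.map a₂) (IsLocalRing.closedPoint ↥R₂) = IsLocalRing.closedPoint (X.presheaf.stalk x₀) :=
        IsLocalRing.comap_closedPoint (S := ↥R₂) a₂.hom
      rw [this, X.fromSpecStalk_closedPoint]
    have h3 : f y₀ = x₀ := by
      rw [← h2, ← hφ'₂, ← hy₀]
      rfl
    show f ((Spec.map e ≫ Y.fromSpecStalk y₀) (IsLocalRing.closedPoint ↥V)) = _
    rw [h1, h3, hx₀]
  · rw [← Category.assoc, hl₁, w]

end K937.VC
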