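import Groth.Agent.Ega43.DvrDomination
import Groth.Agent.Ega43.DvrScheme
import Groth.Agent.Ega4B.NagIntClos
import Mathlib.RingTheory.RingHom.EssFiniteType
import Mathlib.RingTheory.DedekindDomain.Dvr

/-!
# Discrete valuation rings essentially of finite type over a Nagata ring

* `exists_dvr_of_subring` : a Nagata subring `A` with fraction field `L` and a nonzero nonunit `x`:
  a DVR of `L` containing `A`, essentially of finite type over `A`, in which `x` is not a unit.
-/

set_option autoImplicit false
universe u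

open IsLocalRing Groth.Agent.Ega4B CategoryTheory AlgebraicGeometry

namespace Groth.Agent.ValCrit.K937.DvrEss

theorem essFiniteType_ofPrime {L : Type u} [Field L] (A : Subring L) (p : Ideal A) [p.IsPrime] :
    (Subring.inclusion (LocalSubring.le_ofPrime A p)).EssFiniteType :=
  Algebra.EssFiniteType.of_isLocalization (LocalSubring.ofPrime A p).toSubring p.primeCompl

theorem dimensionLEOne_of_krullDimLE {B : Type u} [CommRing B] [IsDomain B]
    [h : Ring.KrullDimLE 1 B] : Ring.DimensionLEOne B :=
  ⟨fun {p} hp hpp => (Ring.krullDimLE_one_iff_of_noZeroDivisors.mp h) p hp hpp⟩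

/-- A Nagata subring `A` with fraction field `L` and a nonzero nonunit `x` of `A` gives a
discrete valuation ring of `L` containing `A`, essentially of finite type over `A`, in which `x` is
not a unit. -/
theorem exists_dvr_of_subring (L : Type u) [Field L] (A : Subring L) (hN : CAlg.IsNagata A)
    (hfrac : IsFractionRing A L) (x : A) (hx0 : x ≠ 0) (hx : ¬ IsUnit x) :
    ∃ (R : Subring L) (h : A ≤ R), IsDiscreteValuationRing R ∧ IsFractionRing R L ∧
      ¬ IsUnit (Subring.inclusion h x) ∧ (Subring.inclusion h).EssFiniteType := by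
  have hNoeth : IsNoetherianRing A := hN.1
  obtain ⟨⟨p, hp⟩⟩ := Ideal.nonempty_minimalPrimes (I := Ideal.span {x})
    (fun h => hx (Ideal.span_singleton_eq_top.mp h))
  have hpp : p.IsPrime := hp.1.1
  have hht : p.height ≤ 1 :=
    Ideal.height_le_one_of_isPrincipal_of_mem_minimalPrimes (Ideal.span {x}) p hp
  set B := LocalSubring.ofPrime A p with hB
  have hAB : A ≤ B.toSubring := LocalSubring.le_ofPrime A p
  have hloc : IsLocalization.AtPrime B.toSubring p := inferInstance
  have hBN : IsNoetherianRing B.toSubring :=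
    IsLocalization.isNoetherianRing p.primeCompl _ inferInstance
  have hBfrac : IsFractionRing B.toSubring L :=
    IsFractionRing.isFractionRing_of_isDomain_of_isLocalization p.primeCompl B.toSubring L
  have hdim : Ring.KrullDimLE 1 B.toSubring := by
    rw [Ring.krullDimLE_iff, IsLocalization.AtPrime.ringKrullDim_eq_height p B.toSubring]
    exact_mod_cast hht
  have hdim' : Ring.DimensionLEOne B.toSubring := dimensionLEOne_of_krullDimLE
  have hBNag : CAlg.IsNagata B.toSubring := NagBasic.isNagata_localization hN p.primeCompl _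
  have hxB : ¬ IsUnit (⟨x, hAB x.2⟩ : B.toSubring) := by
    intro h
    have h1 : algebraMap A B.toSubring x = ⟨x, hAB x.2⟩ := rfl
    rw [← h1, IsLocalization.AtPrime.isUnit_to_map_iff B.toSubring p] at h
    exact h (hp.1.2 (Ideal.subset_span rfl))
  -- the normalization
  let C := integralClosure B.toSubring L
  have hess : Algebra.EssFiniteType B.toSubring L :=
    Algebra.EssFiniteType.of_isLocalization _ (nonZeroDivisors B.toSubring)
  have hCfin : Module.Finite B.toSubring C := NagIntClos.finite_of_isDomain hBNag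
  have hCN : IsNoetherianRing C := IsNoetherianRing.of_finite B.toSubring C
  have hCfrac : IsFractionRing C L := integralClosure.isFractionRing_of_finite_extension L L
  have hCint : Algebra.IsIntegral B.toSubring C := inferInstance
  have hCic : IsIntegrallyClosed C := by
    rw [isIntegrallyClosed_iff L]
    intro z hz
    exact ⟨⟨z, isIntegral_trans (R := B.toSubring) z hz⟩, rfl⟩
  have hCdim : Ring.DimensionLEOne C := inferInstance
  have hCded : IsDedekindDomain C := { }
  -- a prime over the maximal ideal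
  obtain ⟨q, hq, hqc⟩ := Ideal.exists_ideal_over_maximal_of_isIntegral (S := C)
    (maximalIdeal B.toSubring) (le_maximalIdeal (by simp))
  have hqp : q.IsPrime := hq.isPrime
  let x' : C := algebraMap B.toSubring C ⟨x, hAB x.2⟩
  have hxq : x' ∈ q := by
    have h1 : (⟨x, hAB x.2⟩ : B.toSubring) ∈ maximalIdeal B.toSubring :=
      (mem_maximalIdeal _).mpr hxB
    rw [← hqc] at h1
    exact h1
  have hx'0 : x' ≠ 0 := by
    intro h
    apply hx0
    have h2 : (x : L) = 0 := congrArg (fun t : C => (t : L)) h
    exact Subtype.ext h2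
  have hq0 : q ≠ ⊥ := by
    rintro rfl
    exact hx'0 (by simpa using hxq)
  let C' : Subring L := C.toSubring
  let q' : Ideal C' := q
  have hq'p : q'.IsPrime := hqp
  set D := LocalSubring.ofPrime C' q' with hD
  have hCD : C' ≤ D.toSubring := LocalSubring.le_ofPrime C' q'
  have hlocD : IsLocalization.AtPrime D.toSubring q' := inferInstance
  have hCded' : IsDedekindDomain C' := hCded
  have hDdvr : IsDiscreteValuationRing D.toSubring :=
    IsLocalization.AtPrime.isDiscreteValuationRing_of_dedekind_domain C' hq0 D.toSubring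
  have hCfrac' : IsFractionRing C' L := hCfrac
  have hDfrac : IsFractionRing D.toSubring L :=
    IsFractionRing.isFractionRing_of_isDomain_of_isLocalization q'.primeCompl D.toSubring L
  have hBC : B.toSubring ≤ C' := fun b hb =>
    (integralClosure B.toSubring L).algebraMap_mem (⟨b, hb⟩ : B.toSubring)
  refine ⟨D.toSubring, hAB.trans (hBC.trans hCD), hDdvr, hDfrac, ?_, ?_⟩
  · intro h
    have h1 : algebraMap C' D.toSubring x' = Subring.inclusion (hAB.trans (hBC.trans hCD)) x := rfl
    rw [← h1, IsLocalization.AtPrime.isUnit_to_map_iff D.toSubring q'] at h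
    exact h hxq
  · have h1 : (Subring.inclusion hAB).EssFiniteType := essFiniteType_ofPrime A p
    have h2 : (Subring.inclusion hBC).EssFiniteType := by
      have : (algebraMap B.toSubring C).FiniteType := by
        rw [RingHom.finiteType_algebraMap]
        infer_instance
      exact this.essFiniteType
    have h3 : (Subring.inclusion hCD).EssFiniteType := essFiniteType_ofPrime C' q'
    exact (h1.comp h2).comp h3

/-- A Noetherian local Nagata domain which is not a field is dominated by a discrete valuation ring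
of any finitely generated extension of its fraction field, essentially of finite type over it. -/
theorem exists_dvr_algebra (A : Type u) [CommRing A] [IsDomain A] [IsLocalRing A]
    (hN : CAlg.IsNagata A) (hA : ¬ IsField A) (L : Type u) [Field L] [Algebra A L]
    (hinj : Function.Injective (algebraMap A L)) [Algebra.EssFiniteType A L] :
    ∃ (R : Type u) (_ : CommRing R) (_ : IsDomain R) (_ : IsDiscreteValuationRing R)
      (_ : Algebra A R) (_ : Algebra R L), IsScalarTower A R L ∧ IsFractionRing R L ∧
        IsLocalHom (algebraMap A R) ∧ Function.Injective (algebraMap A R) ∧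
        Algebra.EssFiniteType A R := by
  classical
  have hNoeth : IsNoetherianRing A := hN.1
  -- a valuation ring dominating `A`
  obtain ⟨V, hV⟩ := (LocalSubring.range (algebraMap A L)).exists_le_valuationSubring
  have hVA : ∀ a : A, algebraMap A L a ∈ V := fun a => hV.1 ⟨a, rfl⟩
  have hVm : ∀ a ∈ maximalIdeal A, algebraMap A L a ∈ V.nonunits := by
    intro a ha
    rw [ValuationSubring.mem_nonunits_iff_exists_mem_maximalIdeal]
    refine ⟨hVA a, ?_⟩
    rw [mem_maximalIdeal, mem_nonunits_iff]
    intro h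
    have h1 : IsUnit (⟨algebraMap A L a, ⟨a, rfl⟩⟩ : (LocalSubring.range (algebraMap A L)).toSubring) :=
      hV.2.1 _ h
    obtain ⟨⟨_, c, rfl⟩, hc⟩ := isUnit_iff_exists_inv.mp h1
    have hc' : algebraMap A L a * algebraMap A L c = 1 := congrArg Subtype.val hc
    rw [← map_mul, ← map_one (algebraMap A L)] at hc'
    exact (mem_maximalIdeal a).mp ha (IsUnit.of_mul_eq_one c (hinj hc'))
  obtain ⟨σ, hσ⟩ := (Algebra.essFiniteType_iff A L).mp inferInstance
  obtain ⟨G, hG⟩ := (isNoetherianRing_iff_ideal_fg A).mp inferInstance (maximalIdeal A)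
  have hm : maximalIdeal A ≠ ⊥ := fun h => hA (isField_iff_maximalIdeal_eq.mpr h)
  have hGm : ∀ g ∈ G, g ∈ maximalIdeal A := fun g hg => by rw [← hG]; exact Ideal.subset_span hg
  have hGne : G.Nonempty := by
    rw [Finset.nonempty_iff_ne_empty]
    rintro rfl
    exact hm (by rw [← hG]; simp)
  obtain ⟨x, hxG, hxmax⟩ := G.exists_max_image (fun a => V.valuation (algebraMap A L a)) hGne
  have hx0 : algebraMap A L x ≠ 0 := by
    intro h0
    apply hm
    rw [← hG, Ideal.span_eq_bot]
    intro g hg
    have := hxmax g hg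
    rw [h0, map_zero, nonpos_iff_eq_zero, map_eq_zero, map_eq_zero_iff _ hinj] at this
    exact this
  let τ : Set L := (fun s : L => if s ∈ V then s else s⁻¹) '' (σ : Set L) ∪
    (fun a : A => algebraMap A L a / algebraMap A L x) '' (G : Set A)
  have hτfin : τ.Finite := (σ.finite_toSet.image _).union (G.finite_toSet.image _)
  let S : Subalgebra A L := Algebra.adjoin A τ
  have hSV : ∀ s ∈ S, s ∈ V := by
    intro s hs
    induction hs using Algebra.adjoin_induction with
    | mem x' hx =>
      rcases hx with ⟨s, hs, rfl⟩ | ⟨a, ha, rfl⟩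
      · dsimp only
        split_ifs with h
        · exact h
        · exact (V.mem_or_inv_mem s).resolve_left h
      · rw [← V.valuation_le_one_iff, map_div₀]
        exact div_le_one_of_le₀ (hxmax a ha) zero_le
    | algebraMap r => exact hVA r
    | add x y _ _ hx hy => exact V.add_mem _ _ hx hy
    | mul x y _ _ hx hy => exact V.mul_mem _ _ hx hy
  have hSft : Algebra.FiniteType A S := by
    rw [← Subalgebra.fg_iff_finiteType]
    exact ⟨hτfin.toFinset, by simp [S]⟩
  have hSNag : CAlg.IsNagata S := NagFinal.isNagata_of_finiteType (R := A) hN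
  have hfrac : IsFractionRing S L := by
    have key : ∀ z : L, ∃ b ∈ S, b ≠ 0 ∧ z * b ∈ S := by
      intro z
      obtain ⟨t, ht, htu, hzt⟩ := hσ z
      have h1 : ∀ s ∈ (σ : Set L), ∃ b ∈ S, b ≠ 0 ∧ s * b ∈ S := by
        intro s hs
        have h2 : (if s ∈ V then s else s⁻¹) ∈ S :=
          Algebra.subset_adjoin (Or.inl ⟨s, hs, rfl⟩)
        by_cases hsV : s ∈ V
        · rw [if_pos hsV] at h2
          exact ⟨1, S.one_mem, one_ne_zero, by simpa using h2⟩
        · rw [if_neg hsV] at h2
          have hs0 : s ≠ 0 := by rintro rfl; exact hsV V.zero_mem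
          exact ⟨s⁻¹, h2, inv_ne_zero hs0, by rw [mul_inv_cancel₀ hs0]; exact S.one_mem⟩
      obtain ⟨b, hb, hb0, htb⟩ := Ega43.DvrDomination.mul_mem_of_adjoin A L S σ h1 t ht
      obtain ⟨c, hc, hc0, hztc⟩ := Ega43.DvrDomination.mul_mem_of_adjoin A L S σ h1 (z * t) hzt
      refine ⟨(t * b) * c, S.mul_mem htb hc, mul_ne_zero (mul_ne_zero htu.ne_zero hb0) hc0, ?_⟩
      have : z * (t * b * c) = (z * t * c) * b := by ring
      rw [this]
      exact S.mul_mem hztc hb
    refine ⟨⟨?_, ?_, ?_⟩⟩
    · intro y
      have : (y : S) ≠ 0 := nonZeroDivisors.ne_zero y.2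
      exact IsUnit.mk0 _ (fun h => this (Subtype.ext h))
    · intro z
      obtain ⟨b, hb, hb0, hzb⟩ := key z
      exact ⟨⟨⟨z * b, hzb⟩, ⟨⟨b, hb⟩, mem_nonZeroDivisors_of_ne_zero
        (fun h => hb0 (congrArg Subtype.val h))⟩⟩, rfl⟩
    · intro y z h
      exact ⟨1, by rw [Subtype.ext h]⟩
  have hxS : algebraMap A L x ∈ S := S.algebraMap_mem x
  have hdiv : ∀ g ∈ G, algebraMap A L g / algebraMap A L x ∈ S := fun g hg =>
    Algebra.subset_adjoin (Or.inr ⟨g, hg, rfl⟩)
  obtain ⟨R, hSR, hRdvr, hRfrac, hxR, hRess⟩ := exists_dvr_of_subring L S.toSubring hSNag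
    (by exact hfrac) ⟨algebraMap A L x, hxS⟩ (fun h => hx0 (congrArg Subtype.val h)) (by
      intro h
      obtain ⟨⟨y, hy⟩, hxy⟩ := isUnit_iff_exists_inv.mp h
      have hxy' : algebraMap A L x * y = 1 := congrArg Subtype.val hxy
      have h1 := hVm x (hGm x hxG)
      rw [ValuationSubring.mem_nonunits_iff] at h1
      have h2 := (V.valuation_le_one_iff y).mpr (hSV y hy)
      have h3 : V.valuation (algebraMap A L x * y) = 1 := by rw [hxy', map_one]
      rw [map_mul] at h3
      exact absurd h3 (mul_lt_one_of_lt_of_le h1 h2).ne)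
  let iS : A →+* S.toSubring := algebraMap A S
  let f : A →+* R := (Subring.inclusion hSR).comp iS
  let _ : Algebra A R := f.toAlgebra
  have hst : IsScalarTower A R L := IsScalarTower.of_algebraMap_eq (fun a => rfl)
  have hnu : ∀ a ∈ maximalIdeal A, f a ∈ maximalIdeal R := by
    intro a ha
    have hxR' : f x ∈ maximalIdeal R := (mem_maximalIdeal _).mpr hxR
    have h1 : a ∈ Ideal.span (G : Set A) := by rw [hG]; exact ha
    induction h1 using Submodule.span_induction with
    | mem g hg =>
      let y : S.toSubring := ⟨algebraMap A L g / algebraMap A L x, hdiv g hg⟩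
      have h2 : f g = f x * Subring.inclusion hSR y := by
        apply Subtype.ext
        show algebraMap A L g = algebraMap A L x * (algebraMap A L g / algebraMap A L x)
        field_simp
      rw [h2]
      exact Ideal.mul_mem_right _ _ hxR'
    | zero => simp
    | add y z hy hz ihy ihz =>
      rw [map_add]
      exact Ideal.add_mem _ (ihy (by rw [← hG]; exact hy)) (ihz (by rw [← hG]; exact hz))
    | smul c y hy ihy =>
      rw [smul_eq_mul, map_mul]
      exact Ideal.mul_mem_left _ _ (ihy (by rw [← hG]; exact hy))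
  refine ⟨R, inferInstance, inferInstance, hRdvr, inferInstance, inferInstance, hst, hRfrac,
    ⟨fun a ha => ?_⟩, fun a b hab => hinj ?_, ?_⟩
  · by_contra hna
    exact (mem_maximalIdeal _).mp (hnu a ((mem_maximalIdeal a).mpr hna)) ha
  · exact congrArg (algebraMap R L) hab
  · have h1 : iS.EssFiniteType := by
      have : (algebraMap A S).FiniteType := by
        rw [RingHom.finiteType_algebraMap]
        exact hSft
      exact this.essFiniteType
    exact h1.comp hRess

/-- Ring homomorphism form: a Nagata local ring `O` and an essentially finite type map to a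
field `L` whose kernel is not the maximal ideal factors through a local map, essentially of finite
type, to a DVR of `L`. -/
theorem exists_dvr_of_ringHom (O : Type u) [CommRing O] [IsLocalRing O] (hN : CAlg.IsNagata O)
    (L : Type u) [Field L] (ψ : O →+* L) (hψ : ψ.EssFiniteType)
    (hker : RingHom.ker ψ ≠ maximalIdeal O) :
    ∃ (R : Type u) (_ : CommRing R) (_ : IsDomain R) (_ : IsDiscreteValuationRing R)
      (_ : Algebra R L) (_ : IsFractionRing R L) (g : O →+* R),
        IsLocalHom g ∧ (algebraMap R L).comp g = ψ ∧ g.EssFiniteType := by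
  let p := RingHom.ker ψ
  have hp : p.IsPrime := RingHom.ker_isPrime ψ
  have : IsLocalRing (O ⧸ p) := .of_surjective' (Ideal.Quotient.mk p) Ideal.Quotient.mk_surjective
  let _ : Algebra O L := ψ.toAlgebra
  let _ : Algebra (O ⧸ p) L := (RingHom.kerLift ψ).toAlgebra
  have hst : IsScalarTower O (O ⧸ p) L := IsScalarTower.of_algebraMap_eq (fun a => rfl)
  have : Algebra.EssFiniteType O L := hψ
  have : Algebra.EssFiniteType (O ⧸ p) L := Algebra.EssFiniteType.of_comp O (O ⧸ p) L
  have hnf : ¬ IsField (O ⧸ p) := by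
    intro h
    have : p.IsMaximal := Ideal.Quotient.maximal_of_isField p h
    exact hker (IsLocalRing.eq_maximalIdeal this)
  have hN' : CAlg.IsNagata (O ⧸ p) :=
    NagBasic.isNagata_of_surjective (Ideal.Quotient.mk p) Ideal.Quotient.mk_surjective hN
  obtain ⟨R, h1, h2, h3, h4, h5, h6, h7, h8, h9, h10⟩ :=
    exists_dvr_algebra (O ⧸ p) hN' hnf L (RingHom.kerLift_injective ψ)
  have hmk : (Ideal.Quotient.mk p).EssFiniteType :=
    (RingHom.FiniteType.of_surjective _ Ideal.Quotient.mk_surjective).essFiniteType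
  refine ⟨R, h1, h2, h3, h5, h7, (algebraMap (O ⧸ p) R).comp (Ideal.Quotient.mk p), ?_, ?_, ?_⟩
  · have : IsLocalHom (Ideal.Quotient.mk p) :=
      .of_surjective _ Ideal.Quotient.mk_surjective
    exact RingHom.isLocalHom_comp _ _
  · ext a
    change algebraMap R L (algebraMap (O ⧸ p) R (Ideal.Quotient.mk p a)) = ψ a
    rw [← IsScalarTower.algebraMap_apply (O ⧸ p) R L]
    rfl
  · exact hmk.comp (by rw [RingHom.essFiniteType_algebraMap]; exact h10)

/-- **DVR through a specialization**, essentially of finite type over the (Nagata) local ring. -/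
theorem exists_dvr_of_specializes {Y : Scheme.{u}} {y' y : Y}
    (hN : CAlg.IsNagata (Y.presheaf.stalk y)) (h : y' ⤳ y) (hne : y' ≠ y)
    (L : Type u) [Field L] (φ : Y.residueField y' ⟶ CommRingCat.of L) (hφ : φ.hom.EssFiniteType) :
    ∃ (R : Type u) (_ : CommRing R) (_ : IsDomain R) (_ : IsDiscreteValuationRing R)
      (_ : Algebra R L) (_ : IsFractionRing R L) (g : Y.presheaf.stalk y ⟶ CommRingCat.of R),
        IsLocalHom g.hom ∧ g.hom.EssFiniteType ∧
        Spec.map (CommRingCat.ofHom (algebraMap R L)) ≫ Spec.map g ≫ Y.fromSpecStalk y =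
          Spec.map φ ≫ Y.fromSpecResidueField y' := by
  set ψ := Y.presheaf.stalkSpecializes h ≫ Y.residue y' ≫ φ with hψ
  have hcomp : Spec.map ψ ≫ Y.fromSpecStalk y = Spec.map φ ≫ Y.fromSpecResidueField y' := by
    rw [hψ, Spec.map_comp, Spec.map_comp, Category.assoc, Category.assoc,
      Scheme.SpecMap_stalkSpecializes_fromSpecStalk]
    rfl
  have hker : RingHom.ker ψ.hom ≠ maximalIdeal (Y.presheaf.stalk y) := by
    intro hk
    apply hne
    have h1 : (Spec.map ψ) (closedPoint L) = closedPoint (Y.presheaf.stalk y) := by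
      apply PrimeSpectrum.ext
      change (maximalIdeal L).comap ψ.hom = maximalIdeal _
      rw [IsLocalRing.maximalIdeal_eq_bot, ← hk]
      rfl
    have h2 : (Spec.map ψ ≫ Y.fromSpecStalk y) (closedPoint L) = y :=
      (Scheme.Hom.comp_apply _ _ _).trans
        ((congrArg (Y.fromSpecStalk y) h1).trans Scheme.fromSpecStalk_closedPoint)
    rw [hcomp] at h2
    exact ((Scheme.Hom.comp_apply _ _ _).trans
      (Scheme.fromSpecResidueField_apply _ _)).symm.trans h2
  obtain ⟨R, i1, i2, i3, i4, i5, g, hg1, hg2, hg3⟩ := exists_dvr_of_ringHom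
    (Y.presheaf.stalk y) hN L ψ.hom (Ega43.DvrScheme.essFiniteType_stalk_comp h _ φ hφ) hker
  let g' : Y.presheaf.stalk y ⟶ CommRingCat.of R := CommRingCat.ofHom g
  have hg' : g' ≫ CommRingCat.ofHom (algebraMap R L) = ψ := by
    apply CommRingCat.hom_ext
    exact hg2
  refine ⟨R, i1, i2, i3, i4, i5, g', hg1, hg3, ?_⟩
  rw [← Category.assoc, ← Spec.map_comp, hg', hcomp]

/-- Version for a point `x` of a scheme `X` locally of finite type over `Y` whose image has a
proper specialization `y`: there is a DVR with fraction field `κ(x)`. -/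
theorem exists_dvr_of_specializes_of_locallyOfFiniteType {X Y : Scheme.{u}} (f : X ⟶ Y)
    [LocallyOfFiniteType f] (x : X) {y : Y}
    (hN : CAlg.IsNagata (Y.presheaf.stalk y)) (h : f x ⤳ y) (hne : f x ≠ y) :
    ∃ (R : Type u) (_ : CommRing R) (_ : IsDomain R) (_ : IsDiscreteValuationRing R)
      (_ : Algebra R (X.residueField x)) (_ : IsFractionRing R (X.residueField x))
      (g : Y.presheaf.stalk y ⟶ CommRingCat.of R),
        IsLocalHom g.hom ∧ g.hom.EssFiniteType ∧
        Spec.map (CommRingCat.ofHom (algebraMap R (X.residueField x))) ≫ Spec.map g ≫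
          Y.fromSpecStalk y = X.fromSpecResidueField x ≫ f := by
  obtain ⟨R, i1, i2, i3, i4, i5, g, hg1, hg2, hg3⟩ :=
    exists_dvr_of_specializes hN h hne (X.residueField x) (f.residueFieldMap x)
      (Ega43.DvrScheme.essFiniteType_residueFieldMap f x)
  exact ⟨R, i1, i2, i3, i4, i5, g, hg1, hg2,
    hg3.trans (Scheme.Hom.SpecMap_residueFieldMap_fromSpecResidueField f x)⟩

theorem map_closedPoint {V : Scheme.{u}} (w : V) {R : Type u} [CommRing R] [IsLocalRing R]
    (g : V.presheaf.stalk w ⟶ CommRingCat.of R) (hg : IsLocalHom g.hom) :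
    (Spec.map g ≫ V.fromSpecStalk w) (closedPoint R) = w := by
  have h1 : (Spec.map g) (closedPoint R) = closedPoint (V.presheaf.stalk w) :=
    IsLocalRing.comap_closedPoint g.hom
  exact (Scheme.Hom.comp_apply _ _ _).trans
      ((congrArg (V.fromSpecStalk w) h1).trans Scheme.fromSpecStalk_closedPoint)

/-- The local ring at `w` of a scheme locally of finite type over `S` is essentially of finite type
over the ring of an affine open of `S`. -/
theorem exists_essFiniteType {V S : Scheme.{u}} (s : V ⟶ S) [LocallyOfFiniteType s] (w : V) :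
    ∃ (U : S.affineOpens) (φ : Γ(S, U.1) ⟶ V.presheaf.stalk w),
      Spec.map φ ≫ U.2.fromSpec = V.fromSpecStalk w ≫ s ∧ φ.hom.EssFiniteType := by
  obtain ⟨_, ⟨U, hU, rfl⟩, hwU, -⟩ :=
    S.isBasis_affineOpens.exists_subset_of_mem_open (Set.mem_univ (s w)) isOpen_univ
  refine ⟨⟨U, hU⟩, S.presheaf.germ U (s w) hwU ≫ s.stalkMap w, ?_, ?_⟩
  · rw [Spec.map_comp, Category.assoc]
    have h1 : Spec.map (S.presheaf.germ U (s w) hwU) ≫ hU.fromSpec = S.fromSpecStalk (s w) :=
      hU.fromSpecStalk_eq_fromSpecStalk hwU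
    rw [h1, Scheme.SpecMap_stalkMap_fromSpecStalk]
  · let _ := TopCat.Presheaf.algebra_section_stalk S.presheaf ⟨s w, hwU⟩
    have := hU.isLocalization_stalk ⟨s w, hwU⟩
    have h1 : Algebra.EssFiniteType Γ(S, U) (S.presheaf.stalk (s w)) :=
      Algebra.EssFiniteType.of_isLocalization _ (hU.primeIdealOf ⟨s w, hwU⟩).asIdeal.primeCompl
    have h2 : (S.presheaf.germ U (s w) hwU).hom.EssFiniteType := h1
    exact h2.comp (LocallyOfFiniteType.stalkMap s w)

/-- The stalks of a scheme locally of finite type over a (locally) Nagata scheme are Nagata. -/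
theorem isNagata_stalk {V S : Scheme.{u}} (s : V ⟶ S) [LocallyOfFiniteType s]
    (hS : ∀ U : S.affineOpens, CAlg.IsNagata Γ(S, U.1)) (w : V) :
    CAlg.IsNagata (V.presheaf.stalk w) := by
  obtain ⟨_, ⟨U, hU, rfl⟩, hwU, -⟩ :=
    S.isBasis_affineOpens.exists_subset_of_mem_open (Set.mem_univ (s w)) isOpen_univ
  obtain ⟨_, ⟨W, hW, rfl⟩, hwW, hWU⟩ :=
    V.isBasis_affineOpens.exists_subset_of_mem_open (show w ∈ (s ⁻¹ᵁ U : Set V) from hwU)
      (s ⁻¹ᵁ U).2
  have hft := LocallyOfFiniteType.finiteType_appLE s hU hW hWU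
  let _ := (s.appLE U W hWU).hom.toAlgebra
  have hft' : Algebra.FiniteType Γ(S, U) Γ(V, W) := hft
  have h1 : CAlg.IsNagata Γ(V, W) := NagFinal.isNagata_of_finiteType (hS ⟨U, hU⟩)
  let _ := TopCat.Presheaf.algebra_section_stalk V.presheaf ⟨w, hwW⟩
  have := hW.isLocalization_stalk ⟨w, hwW⟩
  exact NagBasic.isNagata_localization h1 (hW.primeIdealOf ⟨w, hwW⟩).asIdeal.primeCompl _

end Groth.Agent.ValCrit.K937.DvrEss
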